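import Groth.Agent.Lib.KEuler6.Bridge
import Groth.Agent.Lib.CI2.KoszulInv
import Mathlib.RingTheory.Regular.RegularSequence

/-!
# Koszul homology of a sequence enlarged by elements of its ideal
-/

set_option autoImplicit false
set_option linter.style.haveILetI false
set_option backward.isDefEq.respectTransparency.types false
set_option backward.isDefEq.respectTransparency false

universe u

open CategoryTheory CategoryTheory.Limits
open Groth.Agent.CanElt (KObj kd)

noncomputable section

namespace Groth.Agent.KoszulSplit2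

variable (A : Type u) [CommRing A] (M : Type u) [AddCommGroup M] [Module A M]

/-- Cycles. -/
def cyc (l : List A) : ∀ n, Submodule A (KObj A M l n)
  | 0 => ⊤
  | n + 1 => LinearMap.ker (kd A M l n)

/-- Boundaries inside the cycles. -/
def bd (l : List A) (n : ℕ) : Submodule A (cyc A M l n) :=
  (LinearMap.range (kd A M l n)).comap (cyc A M l n).subtype

/-- Homology of the elementary model. -/
abbrev Hn (l : List A) (n : ℕ) : Type u := cyc A M l n ⧸ bd A M l n

/-- The complex. -/
abbrev C (l : List A) : CochainComplex (ModuleCat.{u} A) ℤ :=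
  DRing.tensorCx (Koszul.koszul A l) (ModuleCat.of A M)

/-- Its homology. -/
abbrev H (l : List A) (m : ℤ) : Type u := ((C A M l).homology m : Type u)

/-- Transport of homology along an equality of degrees. -/
def hCast (l : List A) {m m' : ℤ} (h : m = m') : H A M l m ≃ₗ[A] H A M l m' := by
  subst h; exact LinearEquiv.refl A _

theorem subsingleton_H_pos (l : List A) (m : ℤ) (h : 0 < m) : Subsingleton (H A M l m) :=
  ModuleCat.subsingleton_of_isZero
    (((HomologicalComplex.exactAt_iff (C A M l) m).2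
      (ShortComplex.exact_of_isZero_X₂ _ (KEuler6.isZero_X A M l m h))).isZero_homology)

variable {A M}

/-- Two models of a subquotient. -/
def quotEquiv {V W : Type u} [AddCommGroup V] [Module A V] [AddCommGroup W] [Module A W] (e : V ≃ₗ[A] W)
    (Z B : Submodule A V) (Z' B' : Submodule A W) (hZ : Z.map e.toLinearMap = Z')
    (hB : B.map e.toLinearMap = B') : (Z ⧸ B.comap Z.subtype) ≃ₗ[A] (Z' ⧸ B'.comap Z'.subtype) :=
  Submodule.Quotient.equiv _ _ ((e.submoduleMap Z).trans (LinearEquiv.ofEq _ _ hZ)) (by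
    subst hZ hB
    ext ⟨x, hx⟩
    constructor
    · rintro ⟨a, ha, hax⟩
      exact ⟨a.1, ha, congrArg Subtype.val hax⟩
    · rintro ⟨a, ha, rfl⟩
      obtain ⟨z, hz, hza⟩ := hx
      exact ⟨⟨a, e.injective hza ▸ hz⟩, ha, Subtype.ext rfl⟩)

variable (A M)

/-- Homology in degree `-n`. -/
def homologyEquiv (l : List A) (n : ℕ) (i : ℤ) (h : i + n = 0) : H A M l i ≃ₗ[A] Hn A M l n := by
  let K := C A M l
  let S := K.sc' (i - 1) i (i + 1)
  let e := KEuler6.eX A M l n i h
  let E0 : H A M l i ≃ₗ[A] (LinearMap.ker S.g.hom ⧸ LinearMap.range S.moduleCatToCycles) :=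
    (K.homologyIsoSc' (i - 1) i (i + 1) (by simp) (by simp) ≪≫ S.moduleCatHomologyIso).toLinearEquiv
  suffices F : (LinearMap.ker S.g.hom ⧸ LinearMap.range S.moduleCatToCycles) ≃ₗ[A] Hn A M l n from E0.trans F
  let E1 : (LinearMap.ker S.g.hom ⧸ LinearMap.range S.moduleCatToCycles) ≃ₗ[A]
      (LinearMap.ker S.g.hom ⧸ (LinearMap.range S.f.hom).comap (LinearMap.ker S.g.hom).subtype) :=
    Submodule.quotEquivOfEq _ _ (LinearMap.range_codRestrict _ _ _)
  refine E1.trans (?_ : _ ≃ₗ[A] Hn A M l n)
  refine quotEquiv e (LinearMap.ker S.g.hom) (LinearMap.range S.f.hom) (cyc A M l n)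
    (LinearMap.range (kd A M l n)) ?_ ?_
  · cases n with
    | zero =>
      have : LinearMap.ker S.g.hom = ⊤ := by
        haveI : Subsingleton S.X₃ := ModuleCat.subsingleton_of_isZero (KEuler6.isZero_X A M l (i + 1) (by omega))
        exact LinearMap.ker_eq_top.2 (LinearMap.ext fun _ => Subsingleton.elim _ _)
      exact (congrArg (Submodule.map e.toLinearMap) this).trans ((Submodule.map_top _).trans (LinearEquiv.range _))
    | succ n =>
      refine le_antisymm ?_ ?_
      · rintro _ ⟨x, hx, rfl⟩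
        refine LinearMap.mem_ker.2 ((KEuler6.eX_d A M l n i (i + 1) h (by omega) x).symm.trans ?_)
        rw [show (K.d i (i + 1)).hom x = 0 from LinearMap.mem_ker.1 hx, map_zero]
      · intro y hy
        refine ⟨e.symm y, LinearMap.mem_ker.2 ((KEuler6.eX A M l n (i + 1) (by omega)).injective ?_),
          e.apply_symm_apply y⟩
        refine (KEuler6.eX_d A M l n i (i + 1) h (by omega) _).trans ?_
        rw [e.apply_symm_apply]
        exact (LinearMap.mem_ker.1 hy).trans (map_zero (KEuler6.eX A M l n (i + 1) (by omega))).symm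
  · exact KEuler6.range_d A M l n (i - 1) i (by omega) h

/-- Homology of isomorphic Koszul complexes. -/
def hnEquivOfIso {l l' : List A} (e : ∀ n, KObj A M l n ≃ₗ[A] KObj A M l' n)
    (he : ∀ n z, e n (kd A M l n z) = kd A M l' n (e (n + 1) z)) (n : ℕ) : Hn A M l n ≃ₗ[A] Hn A M l' n :=
  quotEquiv (e n) (cyc A M l n) (LinearMap.range (kd A M l n)) (cyc A M l' n) (LinearMap.range (kd A M l' n))
    (by
      cases n with
      | zero => exact (Submodule.map_top _).trans (LinearEquiv.range _)
      | succ n =>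
        refine le_antisymm ?_ fun y hy => ⟨(e (n + 1)).symm y, LinearMap.mem_ker.2 ((e n).injective ?_),
          (e (n + 1)).apply_symm_apply y⟩
        · rintro _ ⟨x, hx, rfl⟩
          exact LinearMap.mem_ker.2 ((he n x).symm.trans (by rw [LinearMap.mem_ker.1 hx, map_zero]))
        · rw [he, LinearEquiv.apply_symm_apply, map_zero]
          exact LinearMap.mem_ker.1 hy)
    (by
      rw [← LinearMap.range_comp, show (e n).toLinearMap ∘ₗ kd A M l n = kd A M l' n ∘ₗ (e (n + 1)).toLinearMap from
        LinearMap.ext (he n), LinearMap.range_comp_of_range_eq_top _ (LinearEquiv.range _)])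

/-- An element acting null homotopically can be replaced by zero. -/
theorem kiso_cons_zero {y : A} {l : List A} (hy : CI2.Hty M l y) : CI2.KIso M (y :: l) (0 :: l) := by
  obtain ⟨h, h0, hs⟩ := hy
  let tri : ∀ n, (KObj A M l (n + 1) × KObj A M l n) ≃ₗ[A] (KObj A M l (n + 1) × KObj A M l n) := fun n =>
    LinearEquiv.ofLinearMap
      ((LinearMap.fst A _ _ + h n ∘ₗ LinearMap.snd A _ _).prod (LinearMap.snd A _ _))
      ((LinearMap.fst A _ _ - h n ∘ₗ LinearMap.snd A _ _).prod (LinearMap.snd A _ _))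
      (LinearMap.ext fun z => Prod.ext (sub_add_cancel _ _) rfl)
      (LinearMap.ext fun z => Prod.ext (add_sub_cancel_right _ _) rfl)
  refine ⟨fun n => match n with
    | 0 => LinearEquiv.refl A (KObj A M l 0)
    | n + 1 => tri n, fun n => ?_⟩
  cases n with
  | zero =>
    rintro ⟨a, b⟩
    show kd A M l 0 a + y • b = kd A M l 0 (a + h 0 b) + (0 : A) • b
    rw [map_add, h0, zero_smul, add_zero]
  | succ n =>
    rintro ⟨a, b⟩
    show (kd A M l (n + 1) a + y • b + h n (-kd A M l n b), -kd A M l n b) =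
      (kd A M l (n + 1) (a + h (n + 1) b) + (0 : A) • b, -kd A M l n b)
    refine Prod.ext ?_ rfl
    show _ + _ + _ = _ + _
    rw [map_add, map_neg, zero_smul, add_zero, ← hs n b]
    abel

/-- Homology after adding a zero. -/
def hnZeroSucc (l : List A) (n : ℕ) : Hn A M ((0 : A) :: l) (n + 1) ≃ₗ[A] (Hn A M l (n + 1) × Hn A M l n) := by
  have hk : cyc A M ((0 : A) :: l) (n + 1) = (cyc A M l (n + 1)).prod (cyc A M l n) := by
    cases n with
    | zero =>
      refine Submodule.ext fun z => ?_
      show kd A M l 0 z.1 + (0 : A) • z.2 = 0 ↔ kd A M l 0 z.1 = 0 ∧ True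
      rw [zero_smul, add_zero, and_true]
    | succ m =>
      refine Submodule.ext fun z => ?_
      show (kd A M l (m + 1) z.1 + (0 : A) • z.2, -kd A M l m z.2) = 0 ↔ kd A M l (m + 1) z.1 = 0 ∧ kd A M l m z.2 = 0
      rw [Prod.mk_eq_zero, zero_smul, add_zero, neg_eq_zero]
  let e : cyc A M ((0 : A) :: l) (n + 1) ≃ₗ[A] (cyc A M l (n + 1) × cyc A M l n) :=
    (LinearEquiv.ofEq _ _ hk).trans
      { toFun := fun x => (⟨x.1.1, x.2.1⟩, ⟨x.1.2, x.2.2⟩)
        invFun := fun x => ⟨(x.1.1, x.2.1), x.1.2, x.2.2⟩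
        map_add' := fun _ _ => rfl
        map_smul' := fun _ _ => rfl
        left_inv := fun _ => rfl
        right_inv := fun _ => rfl }
  let π : cyc A M ((0 : A) :: l) (n + 1) →ₗ[A] (Hn A M l (n + 1) × Hn A M l n) :=
    ((bd A M l (n + 1)).mkQ.prodMap (bd A M l n).mkQ) ∘ₗ e.toLinearMap
  have hπ : Function.Surjective π :=
    ((Submodule.mkQ_surjective _).prodMap (Submodule.mkQ_surjective _)).comp e.surjective
  refine (Submodule.quotEquivOfEq _ _ ?_).trans (LinearMap.quotKerEquivOfSurjective π hπ)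
  ext z
  rw [LinearMap.mem_ker]
  constructor
  · rintro ⟨w, hw⟩
    have h1 : kd A M l (n + 1) w.1 + (0 : A) • w.2 = (z.1).1 := congrArg Prod.fst hw
    have h2 : -kd A M l n w.2 = (z.1).2 := congrArg Prod.snd hw
    rw [zero_smul, add_zero] at h1
    refine Prod.ext ((Submodule.Quotient.mk_eq_zero _).2 ⟨w.1, h1⟩)
      ((Submodule.Quotient.mk_eq_zero _).2 ⟨-w.2, ?_⟩)
    rw [map_neg]; exact h2
  · intro hz
    obtain ⟨a, ha⟩ := (Submodule.Quotient.mk_eq_zero _).1 (congrArg Prod.fst hz)
    obtain ⟨b, hb⟩ := (Submodule.Quotient.mk_eq_zero _).1 (congrArg Prod.snd hz)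
    refine ⟨(a, -b), Prod.ext ?_ ?_⟩
    · show kd A M l (n + 1) a + (0 : A) • (-b) = _
      rw [zero_smul, add_zero]; exact ha
    · show -kd A M l n (-b) = _
      rw [map_neg, neg_neg]; exact hb

/-- Degree zero homology after adding a zero. -/
def hnZeroZero (l : List A) : Hn A M ((0 : A) :: l) 0 ≃ₗ[A] Hn A M l 0 :=
  quotEquiv (LinearEquiv.refl A (KObj A M l 0)) (cyc A M ((0 : A) :: l) 0) (LinearMap.range (kd A M ((0 : A) :: l) 0))
    (cyc A M l 0) (LinearMap.range (kd A M l 0)) (Submodule.map_top _ |>.trans (LinearEquiv.range _)) (by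
      refine (Submodule.map_id _).trans (le_antisymm ?_ ?_)
      · rintro _ ⟨w, rfl⟩
        exact ⟨w.1, by show _ = kd A M l 0 w.1 + (0 : A) • w.2; rw [zero_smul, add_zero]⟩
      · rintro _ ⟨a, rfl⟩
        exact ⟨(a, 0), by show kd A M l 0 a + (0 : A) • 0 = _; rw [zero_smul, add_zero]⟩)

/-- The step: adding an element of the ideal doubles the homology. -/
theorem nonempty_H_cons {y : A} {l : List A} (hy : y ∈ Ideal.ofList l) (m : ℤ) :
    Nonempty (H A M (y :: l) m ≃ₗ[A] (H A M l m × H A M l (m + 1))) := by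
  obtain ⟨e, he⟩ := kiso_cons_zero A M (CI2.hty_of_mem (M := M) l y hy)
  rcases lt_or_ge 0 m with hm | hm
  · haveI := subsingleton_H_pos A M (y :: l) m hm
    haveI := subsingleton_H_pos A M l m hm
    haveI := subsingleton_H_pos A M l (m + 1) (by omega)
    exact ⟨LinearEquiv.ofSubsingleton _ _⟩
  obtain ⟨n, hn⟩ : ∃ n : ℕ, m + n = 0 := ⟨(-m).toNat, by omega⟩
  cases n with
  | zero =>
    haveI := subsingleton_H_pos A M l (m + 1) (by omega)
    haveI : Unique (H A M l (m + 1)) := uniqueOfSubsingleton 0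
    exact ⟨(homologyEquiv A M (y :: l) 0 m hn).trans ((hnEquivOfIso A M e he 0).trans
      ((hnZeroZero A M l).trans ((homologyEquiv A M l 0 m hn).symm.trans LinearEquiv.prodUnique.symm)))⟩
  | succ n =>
    exact ⟨(homologyEquiv A M (y :: l) (n + 1) m hn).trans ((hnEquivOfIso A M e he (n + 1)).trans
      ((hnZeroSucc A M l n).trans ((homologyEquiv A M l (n + 1) m hn).symm.prodCongr
        (homologyEquiv A M l n (m + 1) (by omega)).symm)))⟩

theorem nonempty_H_perm {l l' : List A} (h : l.Perm l') (m : ℤ) :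
    Nonempty (H A M l m ≃ₗ[A] H A M l' m) := by
  obtain ⟨e, he⟩ := CI2.KIso.of_perm (M := M) h
  rcases lt_or_ge 0 m with hm | hm
  · haveI := subsingleton_H_pos A M l m hm
    haveI := subsingleton_H_pos A M l' m hm
    exact ⟨LinearEquiv.ofSubsingleton _ _⟩
  obtain ⟨n, hn⟩ : ∃ n : ℕ, m + n = 0 := ⟨(-m).toNat, by omega⟩
  exact ⟨(homologyEquiv A M l n m hn).trans ((hnEquivOfIso A M e he n).trans (homologyEquiv A M l' n m hn).symm)⟩

/-- Index set of the subsets of an `r`-element set. -/
def Idx : ℕ → Type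
  | 0 => Unit
  | r + 1 => Idx r ⊕ Idx r

/-- The number of elements of a subset. -/
def deg : ∀ r, Idx r → ℕ
  | 0, _ => 0
  | r + 1, .inl c => deg r c
  | r + 1, .inr c => deg r c + 1

theorem deg_le : ∀ r c, deg r c ≤ r
  | 0, _ => le_rfl
  | r + 1, .inl c => (deg_le r c).trans (Nat.le_succ r)
  | r + 1, .inr c => Nat.succ_le_succ (deg_le r c)

/-- There are `r choose j` subsets with `j` elements. -/
theorem nonempty_fibre : ∀ r j, Nonempty ({c : Idx r // deg r c = j} ≃ Fin (r.choose j))
  | 0, 0 => ⟨{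
      toFun := fun _ => ⟨0, Nat.zero_lt_one⟩
      invFun := fun _ => ⟨(), rfl⟩
      left_inv := fun _ => Subtype.ext rfl
      right_inv := fun (_ : Fin 1) => Subsingleton.elim (α := Fin 1) _ _ }⟩
  | 0, j + 1 => ⟨{
      toFun := fun c => absurd c.2 (Nat.succ_ne_zero j).symm
      invFun := fun (a : Fin 0) => a.elim0
      left_inv := fun c => absurd c.2 (Nat.succ_ne_zero j).symm
      right_inv := fun (a : Fin 0) => a.elim0 }⟩
  | r + 1, 0 => by
    obtain ⟨e⟩ := nonempty_fibre r 0
    let f : {c : Idx (r + 1) // deg (r + 1) c = 0} ≃ {c : Idx r // deg r c = 0} :=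
      { toFun := fun c => match c with
          | ⟨.inl c, h⟩ => ⟨c, h⟩
          | ⟨.inr c, h⟩ => absurd h (Nat.succ_ne_zero _)
        invFun := fun c => ⟨.inl c.1, c.2⟩
        left_inv := fun c => match c with
          | ⟨.inl c, h⟩ => rfl
          | ⟨.inr c, h⟩ => absurd h (Nat.succ_ne_zero _)
        right_inv := fun c => rfl }
    exact ⟨f.trans (e.trans (finCongr (by simp)))⟩
  | r + 1, j + 1 => by
    obtain ⟨e⟩ := nonempty_fibre r j
    obtain ⟨e'⟩ := nonempty_fibre r (j + 1)
    let f : {c : Idx (r + 1) // deg (r + 1) c = j + 1} ≃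
        ({c : Idx r // deg r c = j + 1} ⊕ {c : Idx r // deg r c = j}) :=
      { toFun := fun c => match c with
          | ⟨.inl c, h⟩ => .inl ⟨c, h⟩
          | ⟨.inr c, h⟩ => .inr ⟨c, Nat.succ.inj h⟩
        invFun := fun c => match c with
          | .inl c => ⟨.inl c.1, c.2⟩
          | .inr c => ⟨.inr c.1, congrArg Nat.succ c.2⟩
        left_inv := fun c => match c with
          | ⟨.inl c, h⟩ => rfl
          | ⟨.inr c, h⟩ => rfl
        right_inv := fun c => match c with
          | .inl c => rfl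
          | .inr c => rfl }
    exact ⟨f.trans ((e'.sumCongr e).trans (finSumFinEquiv.trans
      (finCongr (by rw [Nat.choose_succ_succ, add_comm]))))⟩

/-- Adding elements of the ideal. -/
theorem nonempty_H_append (xs : List A) : ∀ ys : List A, (∀ y ∈ ys, y ∈ Ideal.ofList xs) → ∀ m : ℤ,
    Nonempty (H A M (ys ++ xs) m ≃ₗ[A] ((c : Idx ys.length) → H A M xs (m + deg ys.length c)))
  | [], _, m => by
    let p : ((c : Idx 0) → H A M xs (m + deg 0 c)) ≃ₗ[A] H A M xs (m + deg 0 ()) :=
      { toFun := fun f => f ()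
        invFun := fun x _ => x
        map_add' := fun _ _ => rfl
        map_smul' := fun _ _ => rfl
        left_inv := fun f => funext fun _ => rfl
        right_inv := fun x => rfl }
    exact ⟨(hCast A M xs (show m = m + deg 0 () by simp [deg])).trans p.symm⟩
  | y :: ys, hy, m => by
    have ih := nonempty_H_append xs ys fun z hz => hy z (List.mem_cons_of_mem _ hz)
    obtain ⟨e1⟩ := ih m
    obtain ⟨e2⟩ := ih (m + 1)
    obtain ⟨e⟩ := nonempty_H_cons A M (y := y) (l := ys ++ xs)
      (Ideal.span_mono (fun a ha => List.mem_append_right _ ha) (hy y List.mem_cons_self)) m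
    let g : ((c : Idx ys.length) → H A M xs (m + 1 + deg ys.length c)) ≃ₗ[A]
        ((c : Idx ys.length) → H A M xs (m + deg (ys.length + 1) (.inr c))) :=
      LinearEquiv.piCongrRight fun c => hCast A M xs
        (show m + 1 + deg ys.length c = m + deg (ys.length + 1) (.inr c) by simp [deg]; ring)
    exact ⟨e.trans ((e1.prodCongr (e2.trans g)).trans
      (LinearEquiv.sumPiEquivProdPi A (Idx ys.length) (Idx ys.length)
        (fun c => H A M xs (m + deg (ys.length + 1) c))).symm)⟩

theorem nonempty_homology_iso (M : ModuleCat.{u} A) (xs ys : List A)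
    (hy : ∀ y ∈ ys, y ∈ Ideal.span {a | a ∈ xs}) (m : ℤ) :
    Nonempty ((DRing.tensorCx (Koszul.koszul A (xs ++ ys)) M).homology m ≅
      ModuleCat.of A ((j : Fin (ys.length + 1)) → Fin (ys.length.choose j) →
        (DRing.tensorCx (Koszul.koszul A xs) M).homology (m + j))) := by
  obtain ⟨p⟩ := nonempty_H_perm A M (List.perm_append_comm (l₁ := xs) (l₂ := ys)) m
  obtain ⟨e⟩ := nonempty_H_append A M xs ys hy m
  have f := fun j : Fin (ys.length + 1) => nonempty_fibre ys.length j.1
  let σ : (Σ j : Fin (ys.length + 1), Fin (ys.length.choose j)) ≃ Idx ys.length :=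
    (Equiv.sigmaCongrRight fun j => (f j).some.symm).trans
      { toFun := fun p => p.2.1
        invFun := fun c => ⟨⟨deg ys.length c, Nat.lt_succ_of_le (deg_le _ c)⟩, c, rfl⟩
        left_inv := fun ⟨j, c, h⟩ => by
          obtain rfl : (⟨deg ys.length c, Nat.lt_succ_of_le (deg_le _ c)⟩ : Fin (ys.length + 1)) = j := Fin.ext h
          rfl
        right_inv := fun c => rfl }
  let r : ((c : Idx ys.length) → H A M xs (m + deg ys.length c)) ≃ₗ[A]
      ((j : Fin (ys.length + 1)) → Fin (ys.length.choose j) → H A M xs (m + j)) :=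
    (LinearEquiv.piCongrLeft A (fun c => H A M xs (m + deg ys.length c)) σ).symm.trans
      ((LinearEquiv.piCongrRight fun q => hCast A M xs
        (show m + (deg ys.length (σ q) : ℤ) = m + ((q.1 : Fin (ys.length + 1)) : ℕ) from
          congrArg (fun t : ℕ => m + (t : ℤ)) ((f q.1).some.symm q.2).2)).trans
      (LinearEquiv.piCurry A fun j (_ : Fin (ys.length.choose (j : Fin (ys.length + 1)))) => H A M xs (m + j)))
  exact ⟨(p.trans (e.trans r)).toModuleIso⟩

end Groth.Agent.KoszulSplit2
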